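import Groth.Agent.AmpleThLib.Ample
import Mathlib

/-!
# Base loci of powers of an invertible module
-/

set_option autoImplicit false

universe u

open CategoryTheory CategoryTheory.Limits AlgebraicGeometry TopologicalSpace Opposite AmpleThLib

namespace BaseLocusLib

variable {X : Scheme.{u}}

/-- base locus -/
def Bs (M : X.Modules) : Set X :=
  {x : X | ∀ s : Coh.structureModule X ⟶ M, x ∉ CohB1.genLocus M s}

theorem isClosed_bs (M : X.Modules) : IsClosed (Bs M) := by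
  have : Bs M = (⋃ s : Coh.structureModule X ⟶ M, (CohB1.genLocus M s : Set X))ᶜ := by
    ext x; simp [Bs]
  rw [this]
  exact (isOpen_iUnion fun s => (CohB1.genLocus M s).2).isClosed_compl

variable {L : X.Modules} (hL : PicF.IsInvertible L)

theorem notMem_bs_iff (m : ℕ) (x : X) :
    x ∉ Bs (CohB1.tensorPow L m) ↔ ∃ V, IsLocus hL m V ∧ x ∈ V := by
  simp only [Bs, Set.mem_setOf_eq, not_forall, not_not]
  constructor
  · rintro ⟨s, hs⟩
    exact ⟨_, ⟨_, (genLocus_hom (tensorPow_isInvertible hL m) s).symm⟩, hs⟩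
  · rintro ⟨V, ⟨σ, rfl⟩, hx⟩
    exact ⟨QCohLib.unitHom _ σ, by rw [genLocus_unitHom (tensorPow_isInvertible hL m) σ]; exact hx⟩

include hL in
theorem bs_mul_subset (m : ℕ) {k : ℕ} (hk : 0 < k) :
    Bs (CohB1.tensorPow L (m * k)) ⊆ Bs (CohB1.tensorPow L m) := by
  intro x hx
  by_contra h
  obtain ⟨V, hV, hxV⟩ := (notMem_bs_iff hL m x).1 h
  exact (notMem_bs_iff hL _ x).2 ⟨V, hV.mul_right hk, hxV⟩ hx

include hL in
theorem bs_tensorPow_tensorPow (p m : ℕ) :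
    Bs (CohB1.tensorPow (CohB1.tensorPow L p) m) = Bs (CohB1.tensorPow L (p * m)) := by
  obtain ⟨φ, -⟩ := exists_powIso hL p m
  ext x
  rw [← not_iff_not, notMem_bs_iff (tensorPow_isInvertible hL p), notMem_bs_iff hL]
  constructor
  · rintro ⟨V, ⟨σ, rfl⟩, hx⟩
    exact ⟨_, ⟨φ.hom.app ⊤ σ, genSet_iso _ _ φ σ⟩, hx⟩
  · rintro ⟨V, ⟨σ, rfl⟩, hx⟩
    exact ⟨_, ⟨φ.inv.app ⊤ σ, genSet_iso _ _ φ.symm σ⟩, hx⟩

/-- stable base locus -/
def SBs (L : X.Modules) : Set X :=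
  {x : X | ∀ m : ℕ, 0 < m → ∀ s : Coh.structureModule X ⟶ CohB1.tensorPow L m,
    x ∉ CohB1.genLocus (CohB1.tensorPow L m) s}

theorem sbs_subset {m : ℕ} (hm : 0 < m) : SBs L ⊆ Bs (CohB1.tensorPow L m) := fun _ hx => hx m hm

include hL in
theorem sbs_tensorPow {p : ℕ} (hp : 0 < p) : SBs (CohB1.tensorPow L p) = SBs L := by
  ext x
  constructor
  · intro hx m hm
    have : x ∈ Bs (CohB1.tensorPow L (m * p)) := by
      rw [mul_comm, ← bs_tensorPow_tensorPow hL]; exact sbs_subset hm hx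
    exact bs_mul_subset hL m hp this
  · intro hx m hm
    change x ∈ Bs (CohB1.tensorPow (CohB1.tensorPow L p) m)
    rw [bs_tensorPow_tensorPow hL]
    exact sbs_subset (Nat.mul_pos hp hm) hx

include hL in
theorem sbs_eq_and_minimal [NoetherianSpace X] :
    (∃ m : ℕ, 0 < m ∧ Bs (CohB1.tensorPow L m) = SBs L) ∧
    ∀ m : ℕ, 0 < m → ((∀ m' : ℕ, 0 < m' → Bs (CohB1.tensorPow L m') ⊆ Bs (CohB1.tensorPow L m) →
          Bs (CohB1.tensorPow L m') = Bs (CohB1.tensorPow L m)) ↔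
        Bs (CohB1.tensorPow L m) = SBs L) := by
  obtain ⟨C, ⟨m₀, hm₀, rfl⟩, hmin⟩ := (wellFounded_lt (α := Closeds X)).has_min
    {C : Closeds X | ∃ m : ℕ, 0 < m ∧ (⟨_, isClosed_bs (CohB1.tensorPow L m)⟩ : Closeds X) = C}
    ⟨_, 1, one_pos, rfl⟩
  have key : ∀ m, 0 < m → Bs (CohB1.tensorPow L (m₀ * m)) = Bs (CohB1.tensorPow L m₀) := fun m hm => by
    by_contra hne
    exact hmin _ ⟨_, Nat.mul_pos hm₀ hm, rfl⟩
      (Set.ssubset_iff_subset_ne.2 ⟨bs_mul_subset hL m₀ hm, hne⟩)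
  have hB : Bs (CohB1.tensorPow L m₀) = SBs L := by
    refine Set.Subset.antisymm (fun x hx m hm => ?_) (sbs_subset hm₀)
    rw [← key m hm, mul_comm] at hx
    exact bs_mul_subset hL m hm₀ hx
  refine ⟨⟨m₀, hm₀, hB⟩, fun m hm => ⟨fun h => ?_, fun h m' hm' hsub =>
    hsub.antisymm (h ▸ sbs_subset hm')⟩⟩
  rw [← hB, ← key m hm]
  refine (h _ (Nat.mul_pos hm₀ hm) ?_).symm
  rw [mul_comm]
  exact bs_mul_subset hL m hm₀

include hL in
theorem exists_sbs_eq_bs_mul [NoetherianSpace X] :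
    ∃ n₀ : ℕ, 0 < n₀ ∧ ∀ k : ℕ, 0 < k → SBs L = Bs (CohB1.tensorPow L (k * n₀)) := by
  obtain ⟨m, hm, h⟩ := (sbs_eq_and_minimal hL).1
  refine ⟨m, hm, fun k hk => (sbs_subset (Nat.mul_pos hk hm)).antisymm ?_⟩
  rw [← h, mul_comm]
  exact bs_mul_subset hL m hk

theorem noetherianSpace_of_proper {k : Type u} [Field k] (f : X ⟶ Spec (CommRingCat.of k)) [IsProper f] :
    NoetherianSpace X := by
  haveI : IsLocallyNoetherian X := LocallyOfFiniteType.isLocallyNoetherian f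
  haveI : CompactSpace X := QuasiCompact.compactSpace_of_compactSpace f
  haveI : IsNoetherian X := { }
  infer_instance

end BaseLocusLib
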